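import Cfsg.Agent.Nodes.RGDFoldSL
import Cfsg.Agent.ChevalleyStructure.UnipProd
import Cfsg.Agent.ChevalleyStructure.NPerm
import Cfsg.Agent.GpExc.Field
import Cfsg.Agent.FastGrp
import Cfsg.Agent.Prune
set_option linter.all false
prune_inst 0x7f00000000000000000000000000000000000000000000000000000000000000000000000000000000000000000000000000000000000000000000000000000000000000000000000000000000000000003fffffffffdfffffffffffffffffbeffbdffffffff
open scoped Cfsg.Agent.FastGrp

/-!
# Chevalley groups in characteristic two: relations without signs (helper420)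
-/

set_option autoImplicit false
set_option linter.unusedSectionVars false

namespace Cfsg.Agent.H420.PG

open Cfsg.Lie Cfsg.Agent.ChevalleyStructure Cfsg.Agent.ChevalleyStructure.Elts
open Cfsg.Agent.ChevalleyStructure.SL2Hom (up lo mem_closure_SL2)
open Cfsg.Agent.Nodes.RGDFoldSL
open Cfsg.Agent.GpExc.Field (glMap coe_glMap glMap_xG)
open scoped MatrixGroups

universe u

section Hom

variable {F : Type*} [Field F]

/-- Homomorphisms on `SL₂` which agree on the transvections are equal. -/
theorem hom_ext {Γ : Type*} [Group Γ] {f g : SL(2, F) →* Γ} (hu : ∀ t, f (up t) = g (up t))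
    (hl : ∀ t, f (lo t) = g (lo t)) (x : SL(2, F)) : f x = g x := by
  have h1 : Subgroup.closure (Set.range (up (F := F)) ∪ Set.range (lo (F := F))) ≤ f.eqLocus g := by
    rw [Subgroup.closure_le]
    rintro _ (⟨t, rfl⟩ | ⟨t, rfl⟩)
    · exact hu t
    · exact hl t
  exact h1 (mem_closure_SL2 x)

theorem commute_of_gen {Γ : Type*} [Group Γ] {f : SL(2, F) →* Γ} {z : Γ} (hu : ∀ t, Commute z (f (up t)))
    (hl : ∀ t, Commute z (f (lo t))) (x : SL(2, F)) : Commute z (f x) := by
  have h1 : Subgroup.closure (Set.range (up (F := F)) ∪ Set.range (lo (F := F))) ≤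
      (Subgroup.centralizer ({z} : Set Γ)).comap f := by
    rw [Subgroup.closure_le]
    rintro _ (⟨t, rfl⟩ | ⟨t, rfl⟩)
    · rw [SetLike.mem_coe, Subgroup.mem_comap, Subgroup.mem_centralizer_singleton_iff]
      exact (hu t).symm.eq
    · rw [SetLike.mem_coe, Subgroup.mem_comap, Subgroup.mem_centralizer_singleton_iff]
      exact (hl t).symm.eq
  exact (show Commute (f x) z from Subgroup.mem_centralizer_singleton_iff.1 (h1 (mem_closure_SL2 x))).symm

end Hom

section Rel

variable {D : ChevalleyDatum} (hD : InList D) {F : Type u} [Field F] [CharP F 2]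

theorem cast_even {C : ℤ} (h : ¬ C % 2 ≠ 0) : (C : F) = 0 := by
  obtain ⟨m, hm⟩ := Int.even_iff.2 (not_not.1 h)
  rw [hm, Int.cast_add, CharTwo.add_self_eq_zero]

theorem cast_odd {C : ℤ} (h : C % 2 ≠ 0) : (C : F) = 1 := by
  obtain ⟨m, hm⟩ := Int.odd_iff.2 (show C % 2 = 1 by omega)
  rw [hm, two_mul, Int.cast_add, Int.cast_add, CharTwo.add_self_eq_zero, zero_add, Int.cast_one]

/-- the terms of the commutator formula with odd coefficient -/
def odd3 (D : ChevalleyDatum) (a c : ℕ) : List (ℕ × ℕ × ℕ) :=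
  ((D.commTerms a c).filter fun t => t.2.1 % 2 != 0).map fun t => (t.1, t.2.2)

/-- admissible pairs with a given commutator -/
def okB (D : ChevalleyDatum) (r s : ℕ) (w : List (ℕ × ℕ × ℕ)) : Bool :=
  decide (r < D.nroots) && (decide (s < D.nroots) && ((s != r) && ((s != D.neg r) && (odd3 D r s == w))))

/-- the commutator relation -/
theorem rel {r s : ℕ} {w : List (ℕ × ℕ × ℕ)} (h : okB D r s w = true) (t u : F) :
    xG hD s u * xG hD r t = xG hD r t * xG hD s u *
      (w.map fun c => xG hD c.1 (t ^ c.2.1 * u ^ c.2.2)).prod := by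
  unfold okB at h
  simp only [Bool.and_eq_true, decide_eq_true_eq, bne_iff_ne, beq_iff_eq] at h
  obtain ⟨hr, hs, hrs, hneg, hw⟩ := h
  rw [UnipProd.xG_comm hD hr hs hrs hneg, ← hw]
  congr 1
  have h2 : ∀ w : List (ℕ × ℤ × ℕ × ℕ),
      wordG hD (w.map fun c => (c.1, (c.2.1 : F) * (-t) ^ c.2.2.1 * u ^ c.2.2.2)) =
      (((w.filter fun t => t.2.1 % 2 != 0).map fun t => (t.1, t.2.2)).map
        fun c : ℕ × ℕ × ℕ => xG hD c.1 (t ^ c.2.1 * u ^ c.2.2)).prod := by
    intro w
    induction w with
    | nil => rfl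
    | cons c w ih =>
      rw [List.map_cons, wordG_cons, ih]
      have e : (-t : F) = t := CharTwo.neg_eq t
      by_cases hc : c.2.1 % 2 ≠ 0
      · rw [List.filter_cons_of_pos (by simpa using hc), List.map_cons, List.map_cons, List.prod_cons]
        simp only [e, cast_odd hc, one_mul]
      · rw [List.filter_cons_of_neg (by simpa using hc)]
        simp only [e, cast_even hc, zero_mul, xG_zero, one_mul]
  exact h2 _

theorem comm_of {r s : ℕ} (h : okB D r s [] = true) (t u : F) : Commute (xG hD r t) (xG hD s u) := by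
  have h1 := rel (F := F) hD h t u
  rw [List.map_nil, List.prod_nil, mul_one] at h1
  exact h1.symm

/-- the root elements of four pairs commute -/
def okP (D : ChevalleyDatum) (r s : ℕ) : Bool :=
  okB D r s [] && (okB D r (D.neg s) [] && (okB D (D.neg r) s [] && okB D (D.neg r) (D.neg s) []))

theorem lt_of_okB {r s : ℕ} {w : List (ℕ × ℕ × ℕ)} (h : okB D r s w = true) : r < D.nroots ∧ s < D.nroots := by
  unfold okB at h
  simp only [Bool.and_eq_true, decide_eq_true_eq] at h
  exact ⟨h.1, h.2.1⟩

theorem psi_comm_psi {r s : ℕ} (h : okP D r s = true) (g g' : SL(2, F)) :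
    Commute (psi hD F r g) (psi hD F s g') := by
  unfold okP at h
  simp only [Bool.and_eq_true] at h
  obtain ⟨h1, h2, h3, h4⟩ := h
  obtain ⟨hr, hs⟩ := lt_of_okB h1
  refine commute_of_gen (fun t => ?_) (fun t => ?_) g'
  · rw [psi_up hD hs]
    refine (commute_of_gen (fun u => ?_) (fun u => ?_) g).symm
    · rw [psi_up hD hr]; exact (comm_of hD h1 u t).symm
    · rw [psi_lo hD hr]; exact (comm_of hD h3 u t).symm
  · rw [psi_lo hD hs]
    refine (commute_of_gen (fun u => ?_) (fun u => ?_) g).symm
    · rw [psi_up hD hr]; exact (comm_of hD h2 u t).symm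
    · rw [psi_lo hD hr]; exact (comm_of hD h4 u t).symm

/-- the root element commutes with the root `SL₂` -/
def okQ (D : ChevalleyDatum) (r s : ℕ) : Bool := okB D r s [] && okB D (D.neg r) s []

theorem psi_comm_x {r s : ℕ} (h : okQ D r s = true) (g : SL(2, F)) (u : F) :
    Commute (xG hD s u) (psi hD F r g) := by
  unfold okQ at h
  simp only [Bool.and_eq_true] at h
  obtain ⟨h1, h3⟩ := h
  obtain ⟨hr, hs⟩ := lt_of_okB h1
  refine commute_of_gen (fun t => ?_) (fun t => ?_) g
  · rw [psi_up hD hr]; exact (comm_of hD h1 t u).symm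
  · rw [psi_lo hD hr]; exact (comm_of hD h3 t u).symm

/-! ### Weyl group elements -/

/-- the representative of a word -/
noncomputable def nwd (w : List ℕ) : GL D.Idx F := (w.map fun i => nG hD (D.simple i) (1 : F)).prod

theorem nwd_mem (w : List ℕ) : nwd hD w ∈ D.group F := by
  refine Subgroup.list_prod_mem _ fun g hg => ?_
  obtain ⟨i, -, rfl⟩ := List.mem_map.1 hg
  exact nG_mem_group hD _ _

theorem nG_conj_two {i s : ℕ} (hi : i < D.rank) (hs : s < D.nroots) (t : F) :
    nG hD (D.simple i) 1 * xG hD s t * (nG hD (D.simple i) 1)⁻¹ = xG hD (D.reflectRoot i s) t := by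
  obtain ⟨η, hη, h⟩ := Cfsg.Agent.S1031.result (F := F) D hD i s hi hs
  rw [mul_inv_eq_iff_eq_mul]
  apply Units.ext
  rw [Units.val_mul, Units.val_mul, coe_nG, coe_xG, coe_xG]
  have h1 := h t
  have h2 : (η : F) * t = t := by
    rcases hη with rfl | rfl
    · simp
    · rw [Int.cast_neg, Int.cast_one, neg_one_mul, CharTwo.neg_eq]
  rw [h2] at h1
  exact h1

theorem nwd_conj {w : List ℕ} (hw : ∀ i ∈ w, i < D.rank) {s : ℕ} (hs : s < D.nroots) (t : F) :
    nwd hD w * xG hD s t * (nwd hD w)⁻¹ = xG hD (w.foldr D.reflectRoot s) t ∧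
      w.foldr D.reflectRoot s < D.nroots := by
  induction w with
  | nil => exact ⟨by simp [nwd], hs⟩
  | cons i w ih =>
    obtain ⟨h1, h2⟩ := ih fun j hj => hw j (List.mem_cons_of_mem _ hj)
    have hi := hw i List.mem_cons_self
    refine ⟨?_, NPerm.reflectRoot_lt hD hi h2⟩
    have h3 : (nwd hD (i :: w) : GL D.Idx F) = nG hD (D.simple i) 1 * nwd hD w := by
      rw [nwd, List.map_cons, List.prod_cons]
      rfl
    rw [h3, List.foldr_cons, ← nG_conj_two hD hi h2 t, ← h1]
    group

theorem tsig_psi {φ : F →+* F} {σ : GL D.Idx F →* GL D.Idx F} {ρ : ℕ → ℕ} {r : ℕ} (hr : r < D.nroots)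
    (hρr : ρ r < D.nroots) (hn : D.neg (ρ r) = ρ (D.neg r)) (h1 : ∀ t, σ (xG hD r t) = xG hD (ρ r) (φ t))
    (h2 : ∀ t, σ (xG hD (D.neg r) t) = xG hD (ρ (D.neg r)) (φ t)) (g : SL(2, F)) :
    σ (psi hD F r g) = psi hD F (ρ r) (Matrix.SpecialLinearGroup.map φ g) := by
  refine hom_ext (f := σ.comp (psi hD F r)) (g := (psi hD F (ρ r)).comp (Matrix.SpecialLinearGroup.map φ))
    (fun t => ?_) (fun t => ?_) g
  · rw [MonoidHom.comp_apply, MonoidHom.comp_apply, psi_up hD hr, map_up, psi_up hD hρr, h1]
  · rw [MonoidHom.comp_apply, MonoidHom.comp_apply, psi_lo hD hr, map_lo, psi_lo hD hρr, h2, hn]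

/-! ### The natural module of a root `SL₂` of a long root -/

/-- `s' + r = s`, `s + s' = c` -/
def okM (D : ChevalleyDatum) (r s s' c : ℕ) : Bool :=
  okB D r s [] && (okB D (D.neg r) s' [] && (okB D r s' [(s, 1, 1), (c, 1, 2)] &&
    (okB D (D.neg r) s [(s', 1, 1), (c, 1, 2)] && (okQ D r c && (okB D s s' [] && (okB D s c [] && okB D s' c []))))))

/-- **The action of a long root `SL₂`.** -/
theorem psi_act {r s s' c : ℕ} (h : okM D r s s' c = true) (M : SL(2, F)) (u v : F) :
    psi hD F r M * (xG hD s u * xG hD s' v) =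
      xG hD s (M.1 0 0 * u + M.1 0 1 * v) * xG hD s' (M.1 1 0 * u + M.1 1 1 * v) *
        xG hD c (u * v + (M.1 0 0 * u + M.1 0 1 * v) * (M.1 1 0 * u + M.1 1 1 * v)) * psi hD F r M := by
  unfold okM at h
  simp only [Bool.and_eq_true] at h
  obtain ⟨h1, h2, h3, h4, h5, h6, h7, h8⟩ := h
  obtain ⟨hr, hs⟩ := lt_of_okB h1
  obtain ⟨hnr, hs'⟩ := lt_of_okB h2
  have hc : ∀ g : SL(2, F), ∀ z, Commute (xG hD c z) (psi hD F r g) := fun g z => psi_comm_x hD h5 g z
  have hss : ∀ a b, Commute (xG hD s (a : F)) (xG hD s' b) := fun a b => comm_of hD h6 a b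
  have hsc : ∀ a b, Commute (xG hD s (a : F)) (xG hD c b) := fun a b => comm_of hD h7 a b
  have hs'c : ∀ a b, Commute (xG hD s' (a : F)) (xG hD c b) := fun a b => comm_of hD h8 a b
  -- generators
  let P : SL(2, F) → Prop := fun M => ∀ u v, psi hD F r M * (xG hD s u * xG hD s' v) =
      xG hD s (M.1 0 0 * u + M.1 0 1 * v) * xG hD s' (M.1 1 0 * u + M.1 1 1 * v) *
        xG hD c (u * v + (M.1 0 0 * u + M.1 0 1 * v) * (M.1 1 0 * u + M.1 1 1 * v)) * psi hD F r M
  have key : P M := by
    refine Subgroup.closure_induction (p := fun M _ => P M) ?_ ?_ ?_ ?_ (mem_closure_SL2 M)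
    · rintro _ (⟨t, rfl⟩ | ⟨t, rfl⟩) u v
      · have e := rel (F := F) hD h3 t v
        rw [List.map_cons, List.map_cons, List.map_nil, List.prod_cons, List.prod_cons, List.prod_nil, mul_one] at e
        simp only [pow_one] at e
        have e1 : (up t : SL(2, F)).1 0 0 = 1 := by simp [up]
        have e2 : (up t : SL(2, F)).1 0 1 = t := by simp [up]
        have e3 : (up t : SL(2, F)).1 1 0 = 0 := by simp [up]
        have e4 : (up t : SL(2, F)).1 1 1 = 1 := by simp [up]
        rw [e1, e2, e3, e4, psi_up hD hr]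
        -- x_r x_s' = x_s' x_r (x_s x_c)^{-1}
        have e5 : xG hD r t * xG hD s' v = xG hD s' v * xG hD r t * (xG hD s (t * v) * xG hD c (t * v ^ 2))⁻¹ := by
          rw [eq_mul_inv_iff_mul_eq, e]
        have e6 : (xG hD s (t * v) * xG hD c (t * v ^ 2))⁻¹ = xG hD s (t * v) * xG hD c (t * v ^ 2) := by
          rw [mul_inv_rev, xG_inv, xG_inv, CharTwo.neg_eq, CharTwo.neg_eq, (hsc _ _).eq]
        rw [e6] at e5
        have a1 : Commute (xG hD r t) (xG hD s u) := comm_of hD h1 t u
        have a2 : Commute (xG hD r t) (xG hD s (t * v)) := comm_of hD h1 _ _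
        have a3 : Commute (xG hD r t) (xG hD c (t * v ^ 2)) := by
          have := hc (up t) (t * v ^ 2)
          rw [psi_up hD hr] at this
          exact this.symm
        calc xG hD r t * (xG hD s u * xG hD s' v) = xG hD s u * (xG hD r t * xG hD s' v) := by
              rw [← mul_assoc, a1.eq, mul_assoc]
          _ = xG hD s u * xG hD s' v * (xG hD r t * (xG hD s (t * v) * xG hD c (t * v ^ 2))) := by
              rw [e5]; simp only [mul_assoc]
          _ = xG hD s u * xG hD s' v * (xG hD s (t * v) * xG hD c (t * v ^ 2)) * xG hD r t := by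
              rw [(a2.mul_right a3).eq]; simp only [mul_assoc]
          _ = xG hD s u * xG hD s (t * v) * xG hD s' v * xG hD c (t * v ^ 2) * xG hD r t := by
              have := (hss (t * v) v).eq
              simp only [mul_assoc]
              rw [← mul_assoc (xG hD s' v), ← this]
              simp only [mul_assoc]
          _ = _ := by
              rw [xG_add]
              congr 3
              · congr 1; ring
              · congr 1; ring
              · have : u * v + (1 * u + t * v) * (0 * u + 1 * v) = (u * v + u * v) + t * v ^ 2 := by ring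
                rw [this, CharTwo.add_self_eq_zero, zero_add]
      · have e := rel (F := F) hD h4 t u
        rw [List.map_cons, List.map_cons, List.map_nil, List.prod_cons, List.prod_cons, List.prod_nil, mul_one] at e
        simp only [pow_one] at e
        have e1 : (lo t : SL(2, F)).1 0 0 = 1 := by simp [lo]
        have e2 : (lo t : SL(2, F)).1 0 1 = 0 := by simp [lo]
        have e3 : (lo t : SL(2, F)).1 1 0 = t := by simp [lo]
        have e4 : (lo t : SL(2, F)).1 1 1 = 1 := by simp [lo]
        rw [e1, e2, e3, e4, psi_lo hD hr]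
        have e5 : xG hD (D.neg r) t * xG hD s u = xG hD s u * xG hD (D.neg r) t *
            (xG hD s' (t * u) * xG hD c (t * u ^ 2))⁻¹ := by
          rw [eq_mul_inv_iff_mul_eq, e]
        have e6 : (xG hD s' (t * u) * xG hD c (t * u ^ 2))⁻¹ = xG hD s' (t * u) * xG hD c (t * u ^ 2) := by
          rw [mul_inv_rev, xG_inv, xG_inv, CharTwo.neg_eq, CharTwo.neg_eq, (hs'c _ _).eq]
        rw [e6] at e5
        have a1 : Commute (xG hD (D.neg r) t) (xG hD s' v) := comm_of hD h2 t v
        have a2 : Commute (xG hD (D.neg r) t) (xG hD s' (t * u)) := comm_of hD h2 _ _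
        have a3 : Commute (xG hD (D.neg r) t) (xG hD c (t * u ^ 2)) := by
          have := hc (lo t) (t * u ^ 2)
          rw [psi_lo hD hr] at this
          exact this.symm
        calc xG hD (D.neg r) t * (xG hD s u * xG hD s' v) = xG hD (D.neg r) t * xG hD s u * xG hD s' v := by
              rw [mul_assoc]
          _ = xG hD s u * (xG hD (D.neg r) t * (xG hD s' (t * u) * (xG hD c (t * u ^ 2) * xG hD s' v))) := by
              rw [e5]; simp only [mul_assoc]
          _ = xG hD s u * (xG hD s' (t * u) * (xG hD c (t * u ^ 2) * (xG hD s' v * xG hD (D.neg r) t))) := by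
              have h9 : Commute (xG hD (D.neg r) t) (xG hD s' (t * u) * (xG hD c (t * u ^ 2) * xG hD s' v)) :=
                a2.mul_right (a3.mul_right a1)
              rw [h9.eq]; simp only [mul_assoc]
          _ = xG hD s u * (xG hD s' (t * u) * xG hD s' v) * xG hD c (t * u ^ 2) * xG hD (D.neg r) t := by
              have := (hs'c v (t * u ^ 2)).eq
              rw [← mul_assoc (xG hD c (t * u ^ 2)), ← this]
              simp only [mul_assoc]
          _ = _ := by
              rw [xG_add]
              congr 3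
              · congr 1; ring
              · congr 1; ring
              · have : u * v + (1 * u + 0 * v) * (t * u + 1 * v) = (u * v + u * v) + t * u ^ 2 := by ring
                rw [this, CharTwo.add_self_eq_zero, zero_add]
    · intro u v
      rw [map_one, one_mul, mul_one]
      have e1 : (1 : SL(2, F)).1 0 0 = 1 := by simp
      have e2 : (1 : SL(2, F)).1 0 1 = 0 := by simp
      have e3 : (1 : SL(2, F)).1 1 0 = 0 := by simp
      have e4 : (1 : SL(2, F)).1 1 1 = 1 := by simp
      rw [e1, e2, e3, e4]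
      simp only [one_mul, zero_mul, add_zero, zero_add, CharTwo.add_self_eq_zero, xG_zero, mul_one]
    · intro M N _ _ hM hN u v
      rw [map_mul, mul_assoc, hN u v]
      have e : ∀ i j, (M * N).1 i j = M.1 i 0 * N.1 0 j + M.1 i 1 * N.1 1 j := by
        intro i j
        show (M.1 * N.1) i j = _
        rw [Matrix.mul_apply, Fin.sum_univ_two]
      rw [e, e, e, e]
      set u' := N.1 0 0 * u + N.1 0 1 * v with hu'
      set v' := N.1 1 0 * u + N.1 1 1 * v with hv'
      have e1 : (M.1 0 0 * N.1 0 0 + M.1 0 1 * N.1 1 0) * u + (M.1 0 0 * N.1 0 1 + M.1 0 1 * N.1 1 1) * v =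
          M.1 0 0 * u' + M.1 0 1 * v' := by rw [hu', hv']; ring
      have e2 : (M.1 1 0 * N.1 0 0 + M.1 1 1 * N.1 1 0) * u + (M.1 1 0 * N.1 0 1 + M.1 1 1 * N.1 1 1) * v =
          M.1 1 0 * u' + M.1 1 1 * v' := by rw [hu', hv']; ring
      rw [e1, e2]
      calc psi hD F r M * (xG hD s u' * xG hD s' v' * xG hD c (u * v + u' * v') * psi hD F r N)
          = psi hD F r M * (xG hD s u' * xG hD s' v') * xG hD c (u * v + u' * v') * psi hD F r N := by
            simp only [mul_assoc]
        _ = xG hD s (M.1 0 0 * u' + M.1 0 1 * v') * xG hD s' (M.1 1 0 * u' + M.1 1 1 * v') *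
              (xG hD c (u' * v' + (M.1 0 0 * u' + M.1 0 1 * v') * (M.1 1 0 * u' + M.1 1 1 * v')) *
              xG hD c (u * v + u' * v')) * (psi hD F r M * psi hD F r N) := by
            rw [hM u' v']
            have := (hc M (u * v + u' * v')).eq
            simp only [mul_assoc]
            rw [← mul_assoc (psi hD F r M) (xG hD c _), ← this]
            simp only [mul_assoc]
        _ = _ := by
            rw [xG_add]
            congr 2
            congr 1
            have : u' * v' + (M.1 0 0 * u' + M.1 0 1 * v') * (M.1 1 0 * u' + M.1 1 1 * v') + (u * v + u' * v') =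
              (u' * v' + u' * v') + (u * v + (M.1 0 0 * u' + M.1 0 1 * v') * (M.1 1 0 * u' + M.1 1 1 * v')) := by ring
            rw [this, CharTwo.add_self_eq_zero, zero_add]
    · intro M _ hM u v
      -- inverse
      have hdet : M.1 0 0 * M.1 1 1 - M.1 0 1 * M.1 1 0 = 1 := by
        rw [← Matrix.det_fin_two]; exact M.2
      have hi : (M⁻¹).1 = !![M.1 1 1, -M.1 0 1; -M.1 1 0, M.1 0 0] := by
        have : (M⁻¹).1 = Matrix.adjugate M.1 := rfl
        rw [this, Matrix.adjugate_fin_two]
      have i1 : (M⁻¹).1 0 0 = M.1 1 1 := by rw [hi]; simp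
      have i2 : (M⁻¹).1 0 1 = M.1 0 1 := by rw [hi]; simp [CharTwo.neg_eq]
      have i3 : (M⁻¹).1 1 0 = M.1 1 0 := by rw [hi]; simp [CharTwo.neg_eq]
      have i4 : (M⁻¹).1 1 1 = M.1 0 0 := by rw [hi]; simp
      rw [i1, i2, i3, i4]
      set u' := M.1 1 1 * u + M.1 0 1 * v with hu'
      set v' := M.1 1 0 * u + M.1 0 0 * v with hv'
      have j1 : M.1 0 0 * u' + M.1 0 1 * v' = u := by
        rw [hu', hv']
        have : M.1 0 0 * (M.1 1 1 * u + M.1 0 1 * v) + M.1 0 1 * (M.1 1 0 * u + M.1 0 0 * v) =
          (M.1 0 0 * M.1 1 1 - M.1 0 1 * M.1 1 0) * u + ((M.1 0 1 * M.1 1 0 * u + M.1 0 1 * M.1 1 0 * u) +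
            (M.1 0 0 * M.1 0 1 * v + M.1 0 0 * M.1 0 1 * v)) := by ring
        rw [this, hdet, CharTwo.add_self_eq_zero, CharTwo.add_self_eq_zero]
        ring
      have j2 : M.1 1 0 * u' + M.1 1 1 * v' = v := by
        rw [hu', hv']
        have : M.1 1 0 * (M.1 1 1 * u + M.1 0 1 * v) + M.1 1 1 * (M.1 1 0 * u + M.1 0 0 * v) =
          (M.1 0 0 * M.1 1 1 - M.1 0 1 * M.1 1 0) * v + ((M.1 1 0 * M.1 1 1 * u + M.1 1 0 * M.1 1 1 * u) +
            (M.1 0 1 * M.1 1 0 * v + M.1 0 1 * M.1 1 0 * v)) := by ring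
        rw [this, hdet, CharTwo.add_self_eq_zero, CharTwo.add_self_eq_zero]
        ring
      have h9 := hM u' v'
      rw [j1, j2] at h9
      -- psi M (x_s u' x_s' v') = x_s u x_s' v x_c(..) psi M
      have h10 : xG hD s u * xG hD s' v = psi hD F r M * (xG hD s u' * xG hD s' v') * (psi hD F r M)⁻¹ *
          (xG hD c (u' * v' + u * v))⁻¹ := by
        rw [h9]
        group
      have h11 : (xG hD c (u' * v' + u * v))⁻¹ = xG hD c (u * v + u' * v') := by
        rw [xG_inv, CharTwo.neg_eq, add_comm]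
      rw [h10, h11, map_inv]
      have h12 := ((hc M (u * v + u' * v')).inv_right).eq
      calc (psi hD F r M)⁻¹ * (psi hD F r M * (xG hD s u' * xG hD s' v') * (psi hD F r M)⁻¹ *
            xG hD c (u * v + u' * v')) =
            xG hD s u' * xG hD s' v' * ((psi hD F r M)⁻¹ * xG hD c (u * v + u' * v')) := by group
        _ = _ := by rw [← h12]; simp only [mul_assoc]
  exact key u v

end Rel

end Cfsg.Agent.H420.PG

private theorem dce_9b0f946c04e4 : _root_.True := by
  try have : _root_.True := by simp only [_root_.Cfsg.Agent.Nodes.RGDFoldSL.psi.congr_simp]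
  try have : _root_.True := by simp only [_root_.Cfsg.Agent.H420.PG.nwd.congr_simp]
  try have : _root_.True := by simp only [_root_.Cfsg.Agent.H420.PG.nwd.eq_1]
  exact _root_.True.intro
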